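import Cfsg.Agent.Lib.SixteenRank.Main
import Cfsg.Prelude.Def_TwoFusion
import Cfsg.Agent.Lib.CentralPairRank
import Cfsg.Agent.Lib.QuasiDihedral
import Mathlib.GroupTheory.SpecificGroups.Dihedral
import Mathlib.GroupTheory.SpecificGroups.KleinFour

/-!
Centralizers `D × V` of involutions and the sectional two-rank.
-/

set_option autoImplicit false
set_option linter.unusedSectionVars false

namespace CfsgLib.SixteenRank

open Subgroup

universe u
variable {G : Type u} [Group G] [Finite G]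

/-- Sectional rank at most four passes from a Sylow `2`-subgroup to the group. -/
theorem sectional_of_sylow (P : Sylow 2 G) (hr : Cfsg.SectionalPRankLE 2 4 ↥(P : Subgroup G)) :
    Cfsg.SectionalPRankLE 2 4 G := by
  haveI : Fact (Nat.Prime 2) := ⟨Nat.prime_two⟩
  intro H N _ E hE hexp
  let π := QuotientGroup.mk' N
  let f : E.comap π →* E := π.subgroupComap E
  have hf : Function.Surjective f :=
    MonoidHom.subgroupComap_surjective_of_surjective π E (QuotientGroup.mk'_surjective N)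
  obtain ⟨R⟩ : Nonempty (Sylow 2 (E.comap π)) := Sylow.nonempty
  have hE2 : IsPGroup 2 E := fun v => ⟨1, Subtype.ext (by simpa using hexp v.1 v.2)⟩
  have hsurj : Function.Surjective (f.comp (R : Subgroup (E.comap π)).subtype) := by
    intro v
    have htop : (R.mapSurjective hf : Subgroup E) = ⊤ :=
      ((R.mapSurjective hf).3 (hE2.to_subgroup ⊤) le_top).symm
    obtain ⟨r, hr', hrv⟩ := htop.ge (mem_top v)
    exact ⟨⟨r, hr'⟩, hrv⟩
  let ι : ↥(R : Subgroup (E.comap π)) →* G := H.subtype.comp ((E.comap π).subtype.comp (R : Subgroup (E.comap π)).subtype)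
  obtain ⟨Q, hQ⟩ := (R.2.of_surjective ι.rangeRestrict ι.rangeRestrict_surjective).exists_le_sylow
  obtain ⟨g, hg⟩ := MulAction.exists_smul_eq G Q P
  let ψ : ↥(R : Subgroup (E.comap π)) →* ↥(P : Subgroup G) :=
    ((MulAut.conj g : G ≃* G).toMonoidHom.comp ι).codRestrict _ fun r => by
      rw [← hg, Sylow.coe_subgroup_smul]
      exact ⟨ι r, hQ ⟨r, rfl⟩, rfl⟩
  have hψ : Function.Injective ψ := fun a b e =>
    Subtype.ext (Subtype.ext (Subtype.ext ((MulAut.conj g).injective (congrArg Subtype.val e))))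
  exact CfsgLib.CentralPair.sect_bound hr ψ hψ _ hsurj fun v => Subtype.ext (by simpa using hexp v.1 v.2)

/-- A subgroup with a cyclic subgroup containing all squares and all central involutions. -/
def CyclicSquares (D : Subgroup G) : Prop :=
  ∃ c ∈ D, 4 ∣ orderOf c ∧ (∀ d ∈ D, d * d ∈ zpowers c) ∧
    ∀ d ∈ D, d * d = 1 → (∀ e ∈ D, d * e = e * d) → d ∈ zpowers c

theorem cyclicSquares_dihedral {D : Subgroup G} {m : ℕ} (h4 : 4 ∣ m) (hm : 0 < m) (e : D ≃* DihedralGroup m) :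
    CyclicSquares D := by
  haveI : NeZero m := ⟨hm.ne'⟩
  let C : D := e.symm (DihedralGroup.r 1)
  have hpow : ∀ i : ZMod m, ((e.symm (DihedralGroup.r i) : D) : G) ∈ zpowers (C : G) := fun i => by
    refine ⟨(i.val : ℤ), ?_⟩
    show (C : G) ^ (i.val : ℤ) = _
    rw [zpow_natCast, ← Subgroup.coe_pow, ← map_pow, DihedralGroup.r_one_pow, ZMod.natCast_zmod_val]
  refine ⟨C, C.2, ?_, fun d hd => ?_, fun d hd _ hc => ?_⟩
  · rwa [Subgroup.orderOf_coe, MulEquiv.orderOf_eq, DihedralGroup.orderOf_r_one]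
  · obtain ⟨w, hw⟩ : ∃ w, e.symm w = ⟨d, hd⟩ := ⟨e ⟨d, hd⟩, e.symm_apply_apply _⟩
    have : (⟨d, hd⟩ : D) * ⟨d, hd⟩ = e.symm (w * w) := by rw [map_mul, hw]
    have h1 : d * d = ((e.symm (w * w) : D) : G) := congrArg Subtype.val this
    rw [h1]
    cases w with
    | r i => rw [DihedralGroup.r_mul_r]; exact hpow _
    | sr i => rw [DihedralGroup.sr_mul_sr]; exact hpow _
  · obtain ⟨w, hw⟩ : ∃ w, e.symm w = ⟨d, hd⟩ := ⟨e ⟨d, hd⟩, e.symm_apply_apply _⟩
    have hwc : w * DihedralGroup.r 1 = DihedralGroup.r 1 * w := by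
      refine e.symm.injective ?_
      rw [map_mul, map_mul, hw]
      exact Subtype.ext (hc C C.2)
    have hd' : d = ((e.symm w : D) : G) := by rw [hw]
    cases w with
    | r i => rw [hd']; exact hpow _
    | sr i =>
      exfalso
      rw [DihedralGroup.sr_mul_r, DihedralGroup.r_mul_sr] at hwc
      have h2 : ((2 : ℕ) : ZMod m) = 0 := by
        have := DihedralGroup.sr.inj hwc
        push_cast
        calc (2 : ZMod m) = (i + 1) - (i - 1) := by ring
          _ = 0 := by rw [this, sub_self]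
      have := Nat.le_of_dvd two_pos ((ZMod.natCast_eq_zero_iff 2 m).mp h2)
      have := Nat.le_of_dvd hm h4
      omega

theorem cyclicSquares_qd {D : Subgroup G} (h : Cfsg.IsQuasiDihedral D) : CyclicSquares D := by
  obtain ⟨n, -, -, d, -⟩ := CfsgLib.QD.exists_data h
  have hpow : ∀ i : ℤ, ((d.x ^ i : D) : G) ∈ zpowers (d.x : G) := fun i => ⟨i, by simp⟩
  refine ⟨d.x, d.x.2, ?_, fun a ha => ?_, fun a ha _ hc => ?_⟩
  · rw [Subgroup.orderOf_coe, d.hx]
    exact ⟨2 * d.M, by ring⟩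
  · have hX : (⟨a, ha⟩ : D) * ⟨a, ha⟩ ∈ d.X := Subgroup.mul_self_mem_of_index_two (CfsgLib.QD.index_X d) _
    obtain ⟨i, hi⟩ := mem_zpowers_iff.mp hX
    rw [show a * a = ((d.x ^ i : D) : G) by rw [hi]; rfl]
    exact hpow i
  · obtain ⟨i, hi | hi⟩ := CfsgLib.QD.cases_elem d ⟨a, ha⟩
    · rw [show a = ((d.x ^ i : D) : G) from congrArg Subtype.val hi]; exact hpow i
    · exfalso
      have hc1 : (d.x ^ i * d.y) * d.x ^ (1 : ℤ) = d.x ^ (1 : ℤ) * (d.x ^ i * d.y) := by
        rw [← hi, zpow_one]; exact Subtype.ext (hc _ d.x.2)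
      rw [mul_assoc, CfsgLib.QD.y_mul_zpow d, ← mul_assoc, ← mul_assoc, ← zpow_add, ← zpow_add,
        CfsgLib.QD.xy_eq_iff d] at hc1
      obtain ⟨k, hk⟩ := hc1
      have h2 : (2 : ℤ) = 4 * ((d.M : ℤ) * (2 * k + 1)) := by linarith
      omega

/-- A normalizing element moves the four-subgroup `B` off itself only in the abelian case. -/
theorem false_of_cyclicSquares {T D B S : Subgroup G} (hS : IsPGroup 2 S) (hTS : T < S)
    (hprod : Cfsg.IsInternalDirectProduct D B T) (hB : IsKleinFour B) (hD : CyclicSquares D)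
    (hC : ∀ b ∈ B, b ≠ 1 → S ⊓ centralizer ({b} : Set G) = T) : False := by
  haveI : Fact (Nat.Prime 2) := ⟨Nat.prime_two⟩
  obtain ⟨c, hcD, ⟨q, hq⟩, hsq, hcen⟩ := hD
  obtain ⟨hDT, hBT, hcomm, hinf, hsup⟩ := hprod
  have hB4 : Nat.card B = 4 := hB.card_four
  have hB2 : ∀ b ∈ B, b * b = 1 := fun b hb => by
    have e := Monoid.pow_exponent_eq_one (⟨b, hb⟩ : B)
    rw [hB.exponent_two, pow_two] at e
    exact congrArg Subtype.val e
  have hq0 : 0 < q := by
    rcases Nat.eq_zero_or_pos q with rfl | h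
    · exact absurd hq (orderOf_pos c).ne'
    · exact h
  set z := c ^ (2 * q) with hz
  have hz2 : z * z = 1 := by
    rw [hz, ← pow_add, show 2 * q + 2 * q = orderOf c by omega, pow_orderOf_eq_one]
  have hz1 : z ≠ 1 := fun e => by
    have := Nat.le_of_dvd (by omega) (orderOf_dvd_of_pow_eq_one e)
    omega
  have hzD : z ∈ D := pow_mem hcD _
  have hinv : ∀ u ∈ zpowers c, u * u = 1 → u = 1 ∨ u = z := by
    intro u hu hu2
    obtain ⟨i, rfl⟩ := mem_zpowers_iff.mp hu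
    rw [← zpow_add, ← orderOf_dvd_iff_zpow_eq_one, hq] at hu2
    obtain ⟨k, hk⟩ := hu2
    have hcq : c ^ (4 * (q : ℤ)) = 1 := by
      rw [← orderOf_dvd_iff_zpow_eq_one, hq]; push_cast; rfl
    have hzc : c ^ (2 * (q : ℤ)) = z := by rw [hz, ← zpow_natCast]; push_cast; rfl
    rcases Int.even_or_odd k with ⟨j, rfl⟩ | ⟨j, rfl⟩
    · left
      rw [show i = 4 * (q : ℤ) * j by push_cast at hk; linarith, zpow_mul, hcq, one_zpow]
    · right
      rw [show i = 4 * (q : ℤ) * j + 2 * (q : ℤ) by push_cast at hk; linarith, zpow_add, zpow_mul, hcq, one_zpow,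
        one_mul, hzc]
  have hdec : ∀ u ∈ T, ∃ d ∈ D, ∃ b ∈ B, d * b = u := fun u hu => by
    have hn : D ≤ normalizer (B : Set G) := fun d hd => mem_normalizer_fintype fun b hb => by
      rw [SetLike.mem_coe, hcomm d hd b hb, mul_inv_cancel_right]; exact hb
    have hu' : u ∈ (↑(D ⊔ B) : Set G) := by rw [hsup]; exact hu
    rw [coe_mul_of_left_le_normalizer_right D B hn] at hu'
    obtain ⟨d, hd, b, hb, e⟩ := hu'
    exact ⟨d, hd, b, hb, e⟩
  have hmulsq : ∀ {d b : G}, d ∈ D → b ∈ B → d * b * (d * b) = d * d := fun {d b} hd hb => by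
    calc d * b * (d * b) = d * (b * d) * b := by group
      _ = d * d * (b * b) := by rw [← hcomm d hd b hb]; group
      _ = d * d := by rw [hB2 b hb, mul_one]
  have hsqT : ∀ u ∈ T, u * u ∈ zpowers c := fun u hu => by
    obtain ⟨d, hd, b, hb, rfl⟩ := hdec u hu
    rw [hmulsq hd hb]
    exact hsq d hd
  have hcT := hDT hcD
  -- an element of the normalizer outside `T` whose square is inside
  obtain ⟨g, hgS, hgN, hgT, hg2⟩ : ∃ g ∈ S, g ∈ normalizer (T : Set G) ∧ g ∉ T ∧ g * g ∈ T := by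
    haveI : Group.IsNilpotent S := hS.isNilpotent
    have hN := Group.normalizerCondition_of_isNilpotent (G := S) (T.subgroupOf S) (by
      rw [lt_top_iff_ne_top, Ne, subgroupOf_eq_top]; exact not_le_of_gt hTS)
    obtain ⟨w, hwN, hwT⟩ := SetLike.exists_of_lt hN
    have hwN' : (w : G) ∈ normalizer (T : Set G) := mem_normalizer_fintype fun t ht =>
      (mem_normalizer_iff.mp hwN ⟨t, hTS.le ht⟩).mp ht
    obtain ⟨k, hk⟩ := hS w
    have hk' : (w : G) ^ 2 ^ k ∈ T := by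
      rw [← Subgroup.coe_pow, hk]; exact T.one_mem
    classical
    have hex : ∃ k, (w : G) ^ 2 ^ k ∈ T := ⟨k, hk'⟩
    have hne : Nat.find hex ≠ 0 := fun h => hwT (by
      have h' := Nat.find_spec hex
      rw [h, pow_zero, pow_one] at h'
      exact h')
    obtain ⟨j, hj⟩ := Nat.exists_eq_succ_of_ne_zero hne
    refine ⟨(w : G) ^ 2 ^ j, pow_mem w.2 _, pow_mem hwN' _, Nat.find_min hex (by omega), ?_⟩
    have h' := Nat.find_spec hex
    rw [hj, pow_succ, pow_mul, pow_two] at h'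
    exact h'
  have hgc : ∀ u ∈ T, g * u * g⁻¹ ∈ T := fun u hu => (mem_normalizer_iff.mp hgN u).mp hu
  -- the involutions of `Z(T)`
  let Z : Subgroup G :=
    { carrier := {u | u ∈ T ∧ u * u = 1 ∧ ∀ e ∈ T, u * e = e * u}
      one_mem' := ⟨T.one_mem, one_mul 1, fun e _ => by simp⟩
      mul_mem' := by
        rintro a b ⟨ha, ha2, hac⟩ ⟨hb, hb2, hbc⟩
        refine ⟨T.mul_mem ha hb, ?_, fun e he => ?_⟩
        · calc a * b * (a * b) = a * (b * a) * b := by group
            _ = a * a * (b * b) := by rw [← hac b hb]; group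
            _ = 1 := by rw [ha2, hb2, one_mul]
        · rw [mul_assoc, hbc e he, ← mul_assoc, hac e he, mul_assoc]
      inv_mem' := by
        rintro a ⟨ha, ha2, hac⟩
        rw [inv_eq_of_mul_eq_one_left ha2]
        exact ⟨ha, ha2, hac⟩ }
  have hzc : ∀ e ∈ T, z * e = e * z := by
    intro e he
    have hroot : e * z * e⁻¹ = (e * c ^ q * e⁻¹) * (e * c ^ q * e⁻¹) := by
      rw [hz, two_mul, pow_add]; group
    have hu : (e * z * e⁻¹) * (e * z * e⁻¹) = 1 := by
      rw [show e * z * e⁻¹ * (e * z * e⁻¹) = e * (z * z) * e⁻¹ by group, hz2, mul_one, mul_inv_cancel]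
    rcases hinv _ (hroot ▸ hsqT _ (T.mul_mem (T.mul_mem he (pow_mem hcT q)) (T.inv_mem he))) hu with h | h
    · exact absurd (conj_eq_one_iff.mp h) hz1
    · exact (mul_inv_eq_iff_eq_mul.mp h).symm
  have hzZ : z ∈ Z := ⟨hDT hzD, hz2, hzc⟩
  have hBZ : B ≤ Z := fun b hb => ⟨hBT hb, hB2 b hb, fun e he => by
    obtain ⟨d, hd, b', hb', rfl⟩ := hdec e he
    haveI := hB
    have e1 : b * b' = b' * b := congrArg Subtype.val ((IsKleinFour.isMulCommutative (G := B)).is_comm.comm ⟨b, hb⟩ ⟨b', hb'⟩)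
    rw [← mul_assoc, ← hcomm d hd b hb, mul_assoc, e1, mul_assoc]⟩
  have hZle : ∀ u ∈ Z, ∃ b ∈ B, u = b ∨ u = z * b := by
    rintro u ⟨hu, hu2, huc⟩
    obtain ⟨d, hd, b, hb, rfl⟩ := hdec u hu
    rw [hmulsq hd hb] at hu2
    have hdc : ∀ e ∈ D, d * e = e * d := fun e he => by
      have h1 := huc e (hDT he)
      rw [mul_assoc, ← hcomm e he b hb, ← mul_assoc, ← mul_assoc] at h1
      exact mul_right_cancel h1
    rcases hinv d (hcen d hd hu2 hdc) hu2 with rfl | rfl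
    exacts [⟨b, hb, Or.inl (one_mul b)⟩, ⟨b, hb, Or.inr rfl⟩]
  have hgz : g * z * g⁻¹ = z := by
    have hsq' : g * z * g⁻¹ = (g * c ^ q * g⁻¹) * (g * c ^ q * g⁻¹) := by
      rw [hz, two_mul, pow_add]; group
    have hu : (g * z * g⁻¹) * (g * z * g⁻¹) = 1 := by
      rw [show g * z * g⁻¹ * (g * z * g⁻¹) = g * (z * z) * g⁻¹ by group, hz2, mul_one, mul_inv_cancel]
    exact (hinv _ (hsq' ▸ hsqT _ (hgc _ (pow_mem hcT q))) hu).resolve_left fun h => hz1 (conj_eq_one_iff.mp h)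
  -- some element of `B` is fixed
  have hgZ : ∀ u ∈ Z, g * u * g⁻¹ ∈ Z := by
    rintro u ⟨hu, hu2, huc⟩
    refine ⟨hgc u hu, by rw [show g * u * g⁻¹ * (g * u * g⁻¹) = g * (u * u) * g⁻¹ by group, hu2, mul_one, mul_inv_cancel], fun e he => ?_⟩
    have := huc (g⁻¹ * e * g) ((mem_normalizer_iff''.mp hgN e).mp he)
    calc g * u * g⁻¹ * e = g * (u * (g⁻¹ * e * g)) * g⁻¹ := by group
      _ = e * (g * u * g⁻¹) := by rw [this]; group
  have hZB : ∀ u ∈ Z, u * (g * u * g⁻¹) ∈ Z ∧ g * (u * (g * u * g⁻¹)) * g⁻¹ = u * (g * u * g⁻¹) := by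
    intro u hu
    have hgu := hgZ u hu
    refine ⟨Z.mul_mem hu hgu, ?_⟩
    have h2 : g * g * u * (g * g)⁻¹ = u := by rw [← hu.2.2 _ hg2, mul_inv_cancel_right]
    calc g * (u * (g * u * g⁻¹)) * g⁻¹ = g * u * g⁻¹ * (g * g * u * (g * g)⁻¹) := by group
      _ = u * (g * u * g⁻¹) := by rw [h2]; exact (hu.2.2 _ hgu.1).symm
  suffices ∃ b ∈ B, b ≠ 1 ∧ g * b * g⁻¹ = b by
    obtain ⟨b, hb, hb1, hfix⟩ := this
    refine hgT ((hC b hb hb1).le ⟨hgS, ?_⟩)
    exact mem_centralizer_singleton_iff.mpr (mul_inv_eq_iff_eq_mul.mp hfix)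
  by_contra hno
  push Not at hno
  -- the fixed elements are then `1` and `z`
  have hfixsmall : ∀ u ∈ Z, g * u * g⁻¹ = u → ∀ v ∈ Z, g * v * g⁻¹ = v → u ≠ 1 → v ≠ 1 → u = v := by
    intro u hu hfu v hv hfv hu1 hv1
    have key : ∀ w ∈ Z, g * w * g⁻¹ = w → w ≠ 1 → w = z := by
      intro w hw hfw hw1
      obtain ⟨b, hb, rfl | rfl⟩ := hZle w hw
      · exact absurd hfw (hno w hb hw1)
      · rcases eq_or_ne b 1 with rfl | hb1
        · rw [mul_one]
        · refine absurd ?_ (hno b hb hb1)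
          have : g * (z * b) * g⁻¹ = (g * z * g⁻¹) * (g * b * g⁻¹) := by group
          rw [this, hgz] at hfw
          exact mul_left_cancel hfw
    rw [key u hu hfu hu1, key v hv hfv hv1]
  -- so `b ↦ b gbg⁻¹` is injective from `B` into two elements
  obtain ⟨b₁, hb₁, b₂, hb₂, hb1, hb2, hne⟩ : ∃ b₁ ∈ B, ∃ b₂ ∈ B, b₁ ≠ 1 ∧ b₂ ≠ 1 ∧ b₁ ≠ b₂ := by
    haveI : Nontrivial B := Finite.one_lt_card_iff_nontrivial.mp (by rw [hB4]; norm_num)
    obtain ⟨b₁, hb1⟩ := exists_ne (1 : B)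
    obtain ⟨b₂, hb2, hne⟩ : ∃ b₂ : B, b₂ ≠ 1 ∧ b₂ ≠ b₁ := by
      by_contra hc
      push Not at hc
      have hle : Nat.card B ≤ 2 := by
        refine (Nat.card_le_card_of_surjective (fun i : Fin 2 => if i = 0 then (1 : B) else b₁) fun b => ?_).trans_eq
          (Nat.card_fin 2)
        rcases eq_or_ne b 1 with rfl | hb
        · exact ⟨0, rfl⟩
        · exact ⟨1, (hc b hb).symm⟩
      omega
    exact ⟨b₁, b₁.2, b₂, b₂.2, fun e => hb1 (Subtype.ext e), fun e => hb2 (Subtype.ext e),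
      fun e => hne (Subtype.ext e.symm)⟩
  obtain ⟨hw1, hf1⟩ := hZB b₁ (hBZ hb₁)
  obtain ⟨hw2, hf2⟩ := hZB b₂ (hBZ hb₂)
  have hne1 : ∀ b ∈ B, b ≠ 1 → b * (g * b * g⁻¹) ≠ 1 := fun b hb hb1 e => hno b hb hb1 (by
    rw [← inv_eq_of_mul_eq_one_right e]; exact inv_eq_of_mul_eq_one_right (hB2 b hb))
  have e := hfixsmall _ hw1 hf1 _ hw2 hf2 (hne1 b₁ hb₁ hb1) (hne1 b₂ hb₂ hb2)
  have hb12 : b₁ * b₂ ≠ 1 := fun h => hne (by
    rw [eq_inv_of_mul_eq_one_left h, inv_eq_of_mul_eq_one_right (hB2 b₂ hb₂)])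
  refine hno (b₁ * b₂) (B.mul_mem hb₁ hb₂) hb12 ?_
  have c1 := hgZ _ (hBZ hb₁)
  calc g * (b₁ * b₂) * g⁻¹ = b₁ * b₁ * ((g * b₁ * g⁻¹) * (g * b₂ * g⁻¹)) := by rw [hB2 b₁ hb₁]; group
    _ = b₁ * (b₁ * (g * b₁ * g⁻¹)) * (g * b₂ * g⁻¹) := by group
    _ = b₁ * b₂ * ((g * b₂ * g⁻¹) * (g * b₂ * g⁻¹)) := by rw [e]; group
    _ = b₁ * b₂ := by
      rw [show g * b₂ * g⁻¹ * (g * b₂ * g⁻¹) = g * (b₂ * b₂) * g⁻¹ by group, hB2 b₂ hb₂, mul_one, mul_inv_cancel, mul_one]

/-- A group with a cyclic subgroup of index at most eight has sectional two-rank at most four. -/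
theorem sectional_of_cyclic_index (c : G) (h : Nat.card G ≤ 8 * orderOf c) : Cfsg.SectionalPRankLE 2 4 G := by
  intro H N _ E hE hexp
  let π := QuotientGroup.mk' N
  let f : E.comap π →* E := π.subgroupComap E
  have hf : Function.Surjective f :=
    MonoidHom.subgroupComap_surjective_of_surjective π E (QuotientGroup.mk'_surjective N)
  let ι : E.comap π →* G := H.subtype.comp (E.comap π).subtype
  have hι : ∀ a b, ι a = ι b → a = b := fun a b e => Subtype.ext (Subtype.ext e)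
  set C := (zpowers c).comap ι with hC
  haveI : IsCyclic C := isCyclic_of_injective (ι.subgroupComap (zpowers c))
    fun a b e => Subtype.ext (hι a b (congrArg (fun w : zpowers c => (w : G)) e))
  haveI : IsCyclic (C.map f) := isCyclic_of_surjective (f.subgroupMap C) (f.subgroupMap_surjective C)
  have h2 : Nat.card (C.map f) ≤ 2 := by
    rw [← IsCyclic.exponent_eq_card]
    refine Nat.le_of_dvd two_pos (Monoid.exponent_dvd_of_forall_pow_eq_one fun v => ?_)
    exact Subtype.ext (Subtype.ext (by simpa using hexp v.1.1 v.1.2))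
  have h8 : (C.map f).index ≤ 8 := by
    refine (Nat.le_of_dvd (Nat.pos_of_ne_zero index_ne_zero_of_finite) (C.index_map_dvd hf)).trans ?_
    rw [hC, index_comap]
    refine (relIndex_le_of_le_right le_top (by rw [relIndex_top_right]; exact index_ne_zero_of_finite)).trans ?_
    rw [relIndex_top_right]
    have hc := (zpowers c).card_mul_index
    rw [Nat.card_zpowers] at hc
    exact Nat.le_of_mul_le_mul_left (by rw [hc, mul_comm]; exact h) (orderOf_pos c)
  rw [← (C.map f).card_mul_index]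
  exact (Nat.mul_le_mul h2 h8).trans (by norm_num)

/-- The factors of an internal direct product give the factorisation of each element. -/
theorem card_prod {T D B : Subgroup G} (hprod : Cfsg.IsInternalDirectProduct D B T) :
    (∀ u ∈ T, ∃ d ∈ D, ∃ b ∈ B, d * b = u) ∧ Nat.card T = Nat.card D * Nat.card B := by
  obtain ⟨hDT, hBT, hcomm, hinf, hsup⟩ := hprod
  have hdec : ∀ u ∈ T, ∃ d ∈ D, ∃ b ∈ B, d * b = u := fun u hu => by
    have hn : D ≤ normalizer (B : Set G) := fun d hd => mem_normalizer_fintype fun b hb => by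
      rw [SetLike.mem_coe, hcomm d hd b hb, mul_inv_cancel_right]; exact hb
    have hu' : u ∈ (↑(D ⊔ B) : Set G) := by rw [hsup]; exact hu
    rw [coe_mul_of_left_le_normalizer_right D B hn] at hu'
    obtain ⟨d, hd, b, hb, e⟩ := hu'
    exact ⟨d, hd, b, hb, e⟩
  refine ⟨hdec, le_antisymm ?_ (card_mul_le hDT hBT hinf)⟩
  rw [← Nat.card_prod]
  refine Nat.card_le_card_of_surjective (fun p : D × B => (⟨p.1 * p.2, T.mul_mem (hDT p.1.2) (hBT p.2.2)⟩ : T)) ?_
  rintro ⟨u, hu⟩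
  obtain ⟨d, hd, b, hb, e⟩ := hdec u hu
  exact ⟨(⟨d, hd⟩, ⟨b, hb⟩), Subtype.ext e⟩

end CfsgLib.SixteenRank
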