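import Cfsg.Agent.Lib.MacWilliams.Main
import Cfsg.Agent.Lib.PGroup.RankTwoNormal
import Mathlib.GroupTheory.Sylow
import Mathlib.Tactic.Group

/-!
Sectional rank of a two-group with an elementary abelian subgroup of order sixteen that is the centralizer of each
involution of one of its four-subgroups.
-/

set_option autoImplicit false
set_option linter.unusedSectionVars false

namespace CfsgLib.SixteenRank

open Subgroup

universe u
variable {S : Type u} [Group S] [Finite S]

/-- The hypotheses. -/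
structure Setup (T B : Subgroup S) : Prop where
  hS : IsPGroup 2 S
  hTc : ∀ a ∈ T, ∀ b ∈ T, a * b = b * a
  hT2 : ∀ a ∈ T, a * a = 1
  hT16 : Nat.card T = 16
  hBT : B ≤ T
  hB4 : Nat.card B = 4
  hC : ∀ b ∈ B, b ≠ 1 → centralizer ({b} : Set S) = T

/-- Two subgroups of a finite group meeting trivially have small product of orders. -/
theorem card_mul_le {H A B : Subgroup S} (hA : A ≤ H) (hB : B ≤ H) (h : A ⊓ B = ⊥) :
    Nat.card A * Nat.card B ≤ Nat.card H := by
  rw [← Nat.card_prod]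
  refine Nat.card_le_card_of_injective (fun p : A × B => (⟨p.1 * p.2, H.mul_mem (hA p.1.2) (hB p.2.2)⟩ : H)) ?_
  rintro ⟨a, b⟩ ⟨a', b'⟩ e
  have e' : (a : S) * b = a' * b' := congrArg Subtype.val e
  have hm : (a' : S)⁻¹ * a ∈ A ⊓ B := ⟨A.mul_mem (A.inv_mem a'.2) a.2, by
    have : (a' : S)⁻¹ * a = b' * (b : S)⁻¹ := by
      rw [eq_mul_inv_iff_mul_eq, mul_assoc, e', inv_mul_cancel_left]
    rw [this]; exact B.mul_mem b'.2 (B.inv_mem b.2)⟩
  rw [h, mem_bot, inv_mul_eq_one] at hm
  have : a' = a := Subtype.ext hm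
  subst this
  exact Prod.ext rfl (Subtype.ext (mul_left_cancel e'))

theorem exists_ne_one {H A B : Subgroup S} (hA : A ≤ H) (hB : B ≤ H) (h : Nat.card H < Nat.card A * Nat.card B) :
    ∃ b, b ∈ A ∧ b ∈ B ∧ b ≠ 1 := by
  by_contra hc
  push Not at hc
  refine (card_mul_le hA hB ?_).not_gt h
  rw [eq_bot_iff]
  rintro x ⟨hx, hx'⟩
  exact mem_bot.mpr (hc x hx hx')

namespace Setup

variable {T B : Subgroup S} (h : Setup T B)
include h

/-- The fixed points in `T` of an element outside. -/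
theorem fix_le {x : S} (hx : x ∉ T) : Nat.card ↥(T ⊓ centralizer ({x} : Set S)) ≤ 4 := by
  by_contra hc
  push Not at hc
  obtain ⟨b, hb, hbB, hb1⟩ := exists_ne_one (H := T) (A := T ⊓ centralizer ({x} : Set S)) (B := B) inf_le_left h.hBT
    (by rw [h.hT16, h.hB4]; omega)
  apply hx
  rw [← h.hC b hbB hb1, mem_centralizer_singleton_iff]
  exact (mem_centralizer_singleton_iff.mp hb.2).symm

theorem restrict {M : Subgroup S} (hM : T ≤ M) : Setup (T.subgroupOf M) (B.subgroupOf M) where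
  hS := h.hS.to_subgroup M
  hTc a ha b hb := Subtype.ext (h.hTc a ha b hb)
  hT2 a ha := Subtype.ext (h.hT2 a ha)
  hT16 := by rw [Nat.card_congr (subgroupOfEquivOfLe hM).toEquiv, h.hT16]
  hBT a ha := h.hBT ha
  hB4 := by rw [Nat.card_congr (subgroupOfEquivOfLe (h.hBT.trans hM)).toEquiv, h.hB4]
  hC b hb hb1 := by
    have hC := h.hC b hb fun e => hb1 (Subtype.ext e)
    ext x
    rw [mem_centralizer_singleton_iff, mem_subgroupOf, ← hC, mem_centralizer_singleton_iff]
    exact ⟨fun e => congrArg Subtype.val e, fun e => Subtype.ext e⟩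

theorem index_le [T.Normal] : T.index ≤ 4 := by
  haveI : Fact (Nat.Prime 2) := ⟨Nat.prime_two⟩
  obtain ⟨H, hHn, hHT, hH⟩ := CfsgLib.PGroupRankTwo.exists_normal_card h.hS T 3 (by rw [h.hT16]; norm_num)
  haveI := hHn
  obtain ⟨K, hKn, hKH, hK⟩ := CfsgLib.PGroupRankTwo.exists_normal_card h.hS H 2 (by rw [hH]; norm_num)
  haveI := hKn
  obtain ⟨b, hb, hbB, hb1⟩ := exists_ne_one (H := T) hHT h.hBT (by rw [h.hT16, hH, h.hB4]; norm_num)
  have hstep : ∀ g : S, b⁻¹ * (g * b * g⁻¹) ∈ K := fun g =>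
    CfsgLib.PGroupRankTwo.step_central h.hS hKH (by rw [hH, hK]; norm_num) g hb
  rw [Subgroup.index, show (4 : ℕ) = Nat.card K by rw [hK]; norm_num]
  refine Nat.card_le_card_of_injective
    (fun q : S ⧸ T => (⟨b⁻¹ * (q.out * b * q.out⁻¹), hstep q.out⟩ : K)) fun q q' e => ?_
  have e1 : q.out * b * q.out⁻¹ = q'.out * b * q'.out⁻¹ := mul_left_cancel (congrArg Subtype.val e)
  have hm : q.out⁻¹ * q'.out ∈ T := by
    refine (h.hC b hbB hb1).le (mem_centralizer_singleton_iff.mpr ?_)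
    calc q.out⁻¹ * q'.out * b = q.out⁻¹ * (q'.out * b * q'.out⁻¹) * q'.out := by group
      _ = b * (q.out⁻¹ * q'.out) := by rw [← e1]; group
  have := (QuotientGroup.eq (s := T)).mpr hm
  rwa [QuotientGroup.out_eq', QuotientGroup.out_eq'] at this

theorem card_le_normal [T.Normal] (H : Subgroup S) {V : Type u} [Group V] [Finite V] (f : H →* V)
    (hf : Function.Surjective f) (hV : ∀ v : V, v ^ 2 = 1) : Nat.card V ≤ 16 := by
  set U := T.subgroupOf H with hU
  by_cases hle : H ≤ T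
  · exact ((Nat.card_le_card_of_surjective f hf).trans (card_le_of_le hle)).trans_eq h.hT16
  obtain ⟨x, hxH, hxT⟩ := SetLike.not_le_iff_exists.mp hle
  have hidx : (U.map f).index ≤ 4 := by
    refine (Nat.le_of_dvd (Nat.pos_of_ne_zero index_ne_zero_of_finite) (U.index_map_dvd hf)).trans ?_
    exact (Nat.le_of_dvd (Nat.pos_of_ne_zero index_ne_zero_of_finite)
      (Subgroup.relIndex_dvd_index_of_normal T H)).trans h.index_le
  let fU : U →* V := f.comp U.subtype
  haveI hUn : U.Normal := Subgroup.Normal.subgroupOf inferInstance H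
  have hUc : ∀ a b : U, a * b = b * a := fun a b => Subtype.ext (Subtype.ext (h.hTc _ a.2 _ b.2))
  let φ : U →* U := MonoidHom.mk' (fun u => ⟨(⟨x, hxH⟩ : H) * u * (⟨x, hxH⟩ : H)⁻¹ * (u : H)⁻¹,
      U.mul_mem (hUn.conj_mem _ u.2 _) (U.inv_mem u.2)⟩) fun a b => by
    refine Subtype.ext ?_
    show _ * ((a : H) * b) * _ * ((a : H) * b)⁻¹ = _
    have hc : ∀ c : U, (c : H) * (a : H)⁻¹ = (a : H)⁻¹ * c := fun c => congrArg Subtype.val (hUc c a⁻¹)
    have := hc ⟨_, U.mul_mem (hUn.conj_mem _ b.2 ⟨x, hxH⟩) (U.inv_mem b.2)⟩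
    simp only [Subgroup.coe_mul, mul_inv_rev]
    calc _ = (⟨x, hxH⟩ : H) * a * (⟨x, hxH⟩ : H)⁻¹ * (((⟨x, hxH⟩ : H) * b * (⟨x, hxH⟩ : H)⁻¹ * (b : H)⁻¹) * (a : H)⁻¹) := by
          group
      _ = _ := by rw [this]; group
  have hrange : φ.range ≤ fU.ker := by
    rintro _ ⟨u, rfl⟩
    show f ((⟨x, hxH⟩ : H) * u * (⟨x, hxH⟩ : H)⁻¹ * (u : H)⁻¹) = 1
    rw [map_mul, map_mul, map_mul, MacWilliams.exp_two_comm hV (f ⟨x, hxH⟩) (f u), mul_assoc (f u), map_inv,
      map_inv, mul_inv_cancel, mul_one, mul_inv_cancel]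
  have hker : Nat.card φ.ker ≤ 4 := by
    refine le_trans ?_ (h.fix_le hxT)
    refine Nat.card_le_card_of_injective (fun u => (⟨((u : U) : H), (u : U).2, ?_⟩ : ↥(T ⊓ centralizer ({x} : Set S))))
      fun u v e => Subtype.ext (Subtype.ext (Subtype.ext (Subtype.mk.inj e)))
    have e := u.2
    rw [MonoidHom.mem_ker] at e
    have e' : x * ((u : U) : H) * x⁻¹ * ((((u : U) : H) : S))⁻¹ = 1 :=
      congrArg (fun w : U => ((w : H) : S)) e
    exact mem_centralizer_singleton_iff.mpr (mul_inv_eq_iff_eq_mul.mp (mul_inv_eq_one.mp e')).symm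
  have h1 := fU.ker.card_mul_index
  have h2 := φ.ker.card_mul_index
  rw [Subgroup.index_ker] at h1 h2
  have h3 : Nat.card fU.range ≤ 4 := by
    refine le_trans ?_ hker
    refine Nat.le_of_mul_le_mul_left (?_ : Nat.card φ.range * _ ≤ Nat.card φ.range * _) Nat.card_pos
    calc Nat.card φ.range * Nat.card fU.range ≤ Nat.card fU.ker * Nat.card fU.range :=
          Nat.mul_le_mul_right _ (card_le_of_le hrange)
      _ = Nat.card φ.range * Nat.card φ.ker := by rw [h1, mul_comm, h2]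
  have h4 : fU.range = U.map f := by rw [MonoidHom.range_comp, Subgroup.range_subtype]
  rw [← (U.map f).card_mul_index, ← h4]
  exact (Nat.mul_le_mul h3 (h4 ▸ hidx)).trans (by norm_num)

/-- The normalizer of `T` is `T T'` for any other conjugate `T'` inside it, and its involutions lie in `T ∪ T'`. -/
theorem normalizer_shape {M : Subgroup S} (hM : M = normalizer (T : Set S)) {s : S} (hs : s ∈ normalizer (M : Set S))
    (hsM : s ∉ M) :
    (∀ u ∈ M, u * u = 1 → u ∈ T ∨ s⁻¹ * u * s ∈ T) ∧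
      Nat.card ↥(T ⊓ T.map (MulAut.conj s).toMonoidHom) ≤ 4 := by
  have hTM : T ≤ M := hM ▸ le_normalizer
  set T' := T.map (MulAut.conj s).toMonoidHom with hT'
  have hmem : ∀ {u}, u ∈ T' ↔ s⁻¹ * u * s ∈ T := by
    intro u
    constructor
    · rintro ⟨t, ht, rfl⟩; simpa [mul_assoc] using ht
    · exact fun hu => ⟨_, hu, by simp [mul_assoc]⟩
  have hT'M : T' ≤ M := fun u hu => by
    have := (mem_normalizer_iff.mp hs _).mp (hTM (hmem.mp hu))
    simpa [mul_assoc] using this
  have hne : ¬ T' ≤ T := fun hle => hsM (hM ▸ mem_normalizer_fintype fun t ht => hle ⟨t, ht, rfl⟩)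
  obtain ⟨x, hxT', hxT⟩ := SetLike.not_le_iff_exists.mp hne
  have hT'c : ∀ a ∈ T', ∀ b ∈ T', a * b = b * a := by
    rintro _ ⟨a, ha, rfl⟩ _ ⟨b, hb, rfl⟩
    rw [← map_mul, ← map_mul, h.hTc a ha b hb]
  set I := T ⊓ T' with hI
  have hfixI : ∀ y ∈ T', I ≤ T ⊓ centralizer ({y} : Set S) := fun y hy u hu =>
    ⟨hu.1, mem_centralizer_singleton_iff.mpr (hT'c u hu.2 y hy)⟩
  have hI4 : Nat.card I ≤ 4 := (card_le_of_le (hfixI x hxT')).trans (h.fix_le hxT)
  refine ⟨fun u hu hu2 => ?_, hI4⟩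
  haveI : (T.subgroupOf M).Normal := by rw [hM]; exact Subgroup.normal_in_normalizer
  have hidx := (h.restrict hTM).index_le
  -- `M = T T'`
  let π : T' →* ↥M ⧸ T.subgroupOf M := (QuotientGroup.mk' _).comp (inclusion hT'M)
  have hk : Nat.card π.ker = Nat.card I := by
    refine Nat.card_congr
      { toFun := fun u => ⟨((u : T') : S), (QuotientGroup.eq_one_iff (N := T.subgroupOf M) (inclusion hT'M (u : T'))).mp u.2, (u : T').2⟩
        invFun := fun u => ⟨⟨u.1, u.2.2⟩, (QuotientGroup.eq_one_iff (N := T.subgroupOf M) (inclusion hT'M ⟨u.1, u.2.2⟩)).mpr u.2.1⟩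
        left_inv := fun u => rfl
        right_inv := fun u => rfl }
  have hcT' : Nat.card T' = 16 := by
    rw [hT', Subgroup.card_map_of_injective (MulEquiv.injective _), h.hT16]
  have hcount := π.ker.card_mul_index
  rw [Subgroup.index_ker, hk, hcT'] at hcount
  have hr4 : Nat.card π.range ≤ 4 := (Subgroup.card_le_card_group π.range).trans hidx
  have hI4' : Nat.card I = 4 ∧ Nat.card π.range = 4 := by
    constructor <;> nlinarith
  have htop : π.range = ⊤ := Subgroup.eq_top_of_le_card _ (hI4'.2.symm ▸ hidx)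
  obtain ⟨y, hy⟩ : ∃ y : T', π y = QuotientGroup.mk (⟨u, hu⟩ : M) := by
    have := htop.ge (mem_top (QuotientGroup.mk (⟨u, hu⟩ : M)))
    exact this
  have ht : (y : S)⁻¹ * u ∈ T := (QuotientGroup.eq (s := T.subgroupOf M)).mp hy
  set t := (y : S)⁻¹ * u with ht'
  by_cases hyT : (y : S) ∈ T
  · exact Or.inl (by simpa [ht'] using T.mul_mem hyT ht)
  right
  refine hmem.mp ?_
  have e : u = (y : S) * t := by rw [ht', mul_inv_cancel_left]
  have hy2 : (y : S) * y = 1 := by
    have := hmem.mp y.2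
    have h2 := h.hT2 _ this
    have e2 : s⁻¹ * y * s * (s⁻¹ * y * s) = s⁻¹ * ((y : S) * y) * s := by group
    rw [e2] at h2
    calc (y : S) * y = s * (s⁻¹ * ((y : S) * y) * s) * s⁻¹ := by group
      _ = 1 := by rw [h2]; group
  have hyi : (y : S)⁻¹ = y := inv_eq_of_mul_eq_one_left hy2
  have hti : t⁻¹ = t := inv_eq_of_mul_eq_one_left (h.hT2 t ht)
  have hcomm : t * y = y * t := by
    have h3 : ((y : S) * t)⁻¹ = y * t := inv_eq_of_mul_eq_one_left (e ▸ hu2)
    rwa [mul_inv_rev, hyi, hti] at h3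
  have htfix : t ∈ T ⊓ centralizer ({(y : S)} : Set S) := ⟨ht, mem_centralizer_singleton_iff.mpr hcomm⟩
  have heq : I = T ⊓ centralizer ({(y : S)} : Set S) :=
    eq_of_le_of_card_ge (hfixI _ y.2) (hI4'.1.symm ▸ h.fix_le hyT)
  rw [← heq] at htfix
  exact e ▸ T'.mul_mem y.2 htfix.2

theorem noEight (hn : ¬ T.Normal) : MacWilliams.NoEight S := by
  haveI : Fact (Nat.Prime 2) := ⟨Nat.prime_two⟩
  haveI : Group.IsNilpotent S := h.hS.isNilpotent
  intro A hA hAc hA2
  haveI := hA
  have hA2' : ∀ a ∈ A, a * a = 1 := fun a ha => by rw [← pow_two]; exact hA2 a ha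
  have hcomm : ∀ a ∈ A, ∀ b ∈ A, a * b = b * a := fun a ha b hb =>
    congrArg Subtype.val (hAc.is_comm.comm ⟨a, ha⟩ ⟨b, hb⟩)
  set M := normalizer (T : Set S) with hM
  have hAM : A ≤ M := by
    by_contra hle
    have hlt : M < M ⊔ A := lt_of_le_of_ne le_sup_left fun e => hle (le_sup_right.trans_eq e.symm)
    haveI : Group.IsNilpotent ↥(M ⊔ A) := (h.hS.to_subgroup _).isNilpotent
    have hN := Group.normalizerCondition_of_isNilpotent (G := ↥(M ⊔ A)) (M.subgroupOf (M ⊔ A)) (by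
      rw [lt_top_iff_ne_top, Ne, subgroupOf_eq_top]; exact not_le_of_gt hlt)
    obtain ⟨w, hwN, hwM⟩ := SetLike.exists_of_lt hN
    have hwN' : (w : S) ∈ normalizer (M : Set S) := mem_normalizer_fintype fun m hm =>
      (mem_normalizer_iff.mp hwN ⟨m, mem_sup_left hm⟩).mp hm
    obtain ⟨m, hm, a, ha, e⟩ := mem_sup_of_normal_right.mp w.2
    have haM : a ∉ M := fun ha' => hwM (show (w : S) ∈ M from e ▸ M.mul_mem hm ha')
    have haN : a ∈ normalizer (M : Set S) := by
      have := mul_mem (inv_mem (le_normalizer (H := M) hm)) hwN'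
      rwa [← e, inv_mul_cancel_left] at this
    have hsh := (h.normalizer_shape hM haN haM).1
    have hAT : ∀ v ∈ A, v ∈ M → v ∈ T := by
      intro v hv hvM
      rcases hsh v hvM (hA2' v hv) with hvT | hvT
      · exact hvT
      · rwa [mul_assoc, hcomm v hv a ha, inv_mul_cancel_left] at hvT
    refine haM (hM ▸ mem_normalizer_fintype fun t ht => ?_)
    have htM : t ∈ M := hM ▸ le_normalizer ht
    have hcA : a * t * a⁻¹ * t⁻¹ ∈ A := by
      have := A.mul_mem ha (hA.conj_mem _ (A.inv_mem ha) t)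
      simpa [mul_assoc] using this
    have hcM : a * t * a⁻¹ * t⁻¹ ∈ M := M.mul_mem ((mem_normalizer_iff.mp haN t).mp htM) (M.inv_mem htM)
    simpa using T.mul_mem (hAT _ hcA hcM) ht
  have hMtop : M ≠ ⊤ := fun e => hn (normalizer_eq_top_iff.mp e)
  obtain ⟨s, hs, hsM⟩ := SetLike.exists_of_lt
    (Group.normalizerCondition_of_isNilpotent (G := S) M (lt_top_iff_ne_top.mpr hMtop))
  obtain ⟨hsh, hI⟩ := h.normalizer_shape hM hs hsM
  set T' := T.map (MulAut.conj s).toMonoidHom with hT'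
  have hor : A ≤ T ∨ A ≤ T' := by
    by_contra hc
    push Not at hc
    obtain ⟨a, ha, haT⟩ := SetLike.not_le_iff_exists.mp hc.1
    obtain ⟨b, hb, hbT⟩ := SetLike.not_le_iff_exists.mp hc.2
    have key : ∀ v ∈ A, v ∈ T ∨ v ∈ T' := fun v hv => (hsh v (hAM hv) (hA2' v hv)).imp id
      fun hv' => ⟨_, hv', by simp [mul_assoc]⟩
    have haT' := (key a ha).resolve_left haT
    have hbT0 := (key b hb).resolve_right hbT
    rcases key _ (A.mul_mem ha hb) with h' | h'
    · exact haT ((T.mul_mem_cancel_right hbT0).mp h')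
    · exact hbT ((T'.mul_mem_cancel_left haT').mp h')
  refine (card_le_of_le ?_).trans hI
  refine le_inf ?_ ?_
  · rcases hor with hle | hle
    · exact hle
    · intro v hv
      obtain ⟨t, ht, e⟩ := hle (hA.conj_mem v hv s)
      exact mul_left_cancel (mul_right_cancel (show s * t * s⁻¹ = s * v * s⁻¹ from e)) ▸ ht
  · rcases hor with hle | hle
    · intro v hv
      refine ⟨s⁻¹ * v * s, hle ?_, by simp [mul_assoc]⟩
      simpa using hA.conj_mem v hv s⁻¹
    · exact hle

theorem sectional_rank : Cfsg.SectionalPRankLE 2 4 S := by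
  by_cases hn : T.Normal
  · intro H N _ E hE hexp
    haveI := hn
    let π := QuotientGroup.mk' N
    let e := (E.comap π).equivMapOfInjective H.subtype H.subtype_injective
    let f : (E.comap π).map H.subtype →* E := (π.subgroupComap E).comp e.symm.toMonoidHom
    have hf : Function.Surjective f :=
      (MonoidHom.subgroupComap_surjective_of_surjective π E (QuotientGroup.mk'_surjective N)).comp e.symm.surjective
    exact h.card_le_normal _ f hf fun v => Subtype.ext (by simpa using hexp v.1 v.2)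
  · exact MacWilliams.sectional_rank_le_four h.hS (h.noEight hn)

end Setup

end CfsgLib.SixteenRank
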